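import Mathlib
import Groth.Prelude.Def_DiffOp

/-!
# Basic lemmas on differential operators (`Diff16.IsDiffOpLE`)
-/

set_option autoImplicit false
universe u v

namespace Groth.Agent.Helper19.DiffOp

open Diff16

section Basic

variable (A B : Type u) [CommRing A] [CommRing B] [Algebra A B]
variable (M N : Type v) [AddCommGroup M] [Module A M] [Module B M] [IsScalarTower A B M]
  [AddCommGroup N] [Module A N] [Module B N] [IsScalarTower A B N]

theorem commutator_apply (D : M →ₗ[A] N) (b : B) (m : M) :
    commutator A B M N D b m = D (b • m) - b • D m := rfl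

theorem isDiffOpLE_zero_iff (D : M →ₗ[A] N) :
    IsDiffOpLE A B M N 0 D ↔ ∀ (b : B) (m : M), D (b • m) = b • D m := Iff.rfl

theorem isDiffOpLE_succ_iff (n : ℕ) (D : M →ₗ[A] N) :
    IsDiffOpLE A B M N (n + 1) D ↔ ∀ b : B, IsDiffOpLE A B M N n (commutator A B M N D b) :=
  Iff.rfl

theorem commutator_zero (b : B) : commutator A B M N 0 b = 0 := by
  ext m
  simp [commutator_apply]

theorem isDiffOpLE_zero_map (n : ℕ) : IsDiffOpLE A B M N n 0 := by
  induction n with
  | zero => intro b m; simp
  | succ n ih =>
    intro b
    rw [commutator_zero]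
    exact ih

theorem commutator_comm (D : M →ₗ[A] N) (b c : B) :
    commutator A B M N (commutator A B M N D b) c =
      commutator A B M N (commutator A B M N D c) b := by
  ext m
  simp only [commutator_apply, smul_sub]
  rw [smul_comm b c m, smul_comm b c (D m)]
  abel

theorem commutator_eq_zero_iff (D : M →ₗ[A] N) (b : B) :
    commutator A B M N D b = 0 ↔ ∀ m, D (b • m) = b • D m := by
  constructor
  · intro h m
    have := congrArg (fun f => f m) h
    simpa [commutator_apply, sub_eq_zero] using this
  · intro h
    ext m
    simp [commutator_apply, h m]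

/-- an operator of order `≤ n` has order `≤ n + 1`. -/
theorem isDiffOpLE_succ_of_le (n : ℕ) (D : M →ₗ[A] N) (h : IsDiffOpLE A B M N n D) :
    IsDiffOpLE A B M N (n + 1) D := by
  induction n generalizing D with
  | zero =>
    intro b
    have : commutator A B M N D b = 0 := (commutator_eq_zero_iff A B M N D b).2 (h b)
    rw [this]
    exact isDiffOpLE_zero_map A B M N 0
  | succ n ih =>
    intro b
    exact ih _ (h b)

theorem commutator_sub (D D' : M →ₗ[A] N) (b : B) :
    commutator A B M N (D - D') b = commutator A B M N D b - commutator A B M N D' b := by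
  ext m
  simp only [commutator_apply, LinearMap.sub_apply, smul_sub]
  abel

theorem commutator_add (D D' : M →ₗ[A] N) (b : B) :
    commutator A B M N (D + D') b = commutator A B M N D b + commutator A B M N D' b := by
  ext m
  simp only [commutator_apply, LinearMap.add_apply, smul_add]
  abel

theorem isDiffOpLE_add (n : ℕ) (D D' : M →ₗ[A] N) (h : IsDiffOpLE A B M N n D)
    (h' : IsDiffOpLE A B M N n D') : IsDiffOpLE A B M N n (D + D') := by
  induction n generalizing D D' with
  | zero =>
    intro b m
    simp only [LinearMap.add_apply, smul_add]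
    rw [h b m, h' b m]
  | succ n ih =>
    intro b
    rw [commutator_add]
    exact ih _ _ (h b) (h' b)

theorem isDiffOpLE_sub (n : ℕ) (D D' : M →ₗ[A] N) (h : IsDiffOpLE A B M N n D)
    (h' : IsDiffOpLE A B M N n D') : IsDiffOpLE A B M N n (D - D') := by
  induction n generalizing D D' with
  | zero =>
    intro b m
    simp only [LinearMap.sub_apply, smul_sub]
    rw [h b m, h' b m]
  | succ n ih =>
    intro b
    rw [commutator_sub]
    exact ih _ _ (h b) (h' b)

end Basic

section Comp

variable (A B : Type u) [CommRing A] [CommRing B] [Algebra A B]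
variable (M N N₂ : Type v) [AddCommGroup M] [Module A M] [Module B M] [IsScalarTower A B M]
  [AddCommGroup N] [Module A N] [Module B N] [IsScalarTower A B N]
  [AddCommGroup N₂] [Module A N₂] [Module B N₂] [IsScalarTower A B N₂]

/-- post-composition with a `B`-linear map. -/
theorem isDiffOpLE_postcomp (n : ℕ) (D : M →ₗ[A] N) (α : N →ₗ[B] N₂)
    (h : IsDiffOpLE A B M N n D) :
    IsDiffOpLE A B M N₂ n (α.restrictScalars A ∘ₗ D) := by
  induction n generalizing D with
  | zero =>
    intro b m
    change α (D (b • m)) = b • α (D m)
    rw [h b m, α.map_smul]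
  | succ n ih =>
    intro b
    have : commutator A B M N₂ (α.restrictScalars A ∘ₗ D) b =
        α.restrictScalars A ∘ₗ commutator A B M N D b := by
      ext m
      change α (D (b • m)) - b • α (D m) = α (D (b • m) - b • D m)
      rw [map_sub, α.map_smul]
    rw [this]
    exact ih _ (h b)

/-- pre-composition with a `B`-linear map. -/
theorem isDiffOpLE_precomp (n : ℕ) (D : N →ₗ[A] N₂) (α : M →ₗ[B] N)
    (h : IsDiffOpLE A B N N₂ n D) :
    IsDiffOpLE A B M N₂ n (D ∘ₗ α.restrictScalars A) := by
  induction n generalizing D with
  | zero =>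
    intro b m
    change D (α (b • m)) = b • D (α m)
    rw [α.map_smul, h b]
  | succ n ih =>
    intro b
    have : commutator A B M N₂ (D ∘ₗ α.restrictScalars A) b =
        commutator A B N N₂ D b ∘ₗ α.restrictScalars A := by
      ext m
      change D (α (b • m)) - b • D (α m) = D (b • α m) - b • D (α m)
      rw [α.map_smul]
    rw [this]
    exact ih _ (h b)

end Comp

end Groth.Agent.Helper19.DiffOp
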