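import Mathlib
import Groth.Prelude.Def_DiffOp
import Groth.Agent.Lib.Helper19.DiffOp.Basic

/-!
# The action of `S' ⊗[R] S` on `Hom_R(M, N')`
-/

set_option autoImplicit false
universe u

namespace Groth.Agent.Helper19.DiffOp

open Diff16 TensorProduct

section

variable (R S S' : Type u) [CommRing R] [CommRing S] [CommRing S'] [Algebra R S] [Algebra R S']
  [Algebra S S'] [IsScalarTower R S S']
variable (M N' : Type u) [AddCommGroup M] [Module R M] [Module S M] [IsScalarTower R S M]
  [AddCommGroup N'] [Module R N'] [Module S N'] [Module S' N'] [IsScalarTower R S' N']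
  [IsScalarTower S S' N'] [IsScalarTower R S N']

/-- left multiplication by `S'` on `Hom_R(M, N')`. -/
noncomputable def Lhom : S' →ₐ[R] Module.End R (M →ₗ[R] N') :=
  Algebra.lsmul R R (M →ₗ[R] N')

@[simp] theorem Lhom_apply (b : S') (f : M →ₗ[R] N') (m : M) :
    Lhom R S' M N' b f m = b • f m := rfl

/-- right multiplication by `S` on `Hom_R(M, N')`. -/
noncomputable def Rhom : S →ₐ[R] Module.End R (M →ₗ[R] N') where
  toFun s := LinearMap.lcomp R N' ((LinearMap.lsmul S M s).restrictScalars R)
  map_one' := by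
    ext f m
    simp
  map_mul' s t := by
    ext f m
    simp [mul_smul, smul_comm s t m]
  map_zero' := by
    ext f m
    simp
  map_add' s t := by
    ext f m
    simp [add_smul]
  commutes' r := by
    ext f m
    simp

@[simp] theorem Rhom_apply (s : S) (f : M →ₗ[R] N') (m : M) :
    Rhom R S M N' s f m = f (s • m) := rfl

/-- the action of `S' ⊗[R] S`. -/
noncomputable def phi : S' ⊗[R] S →ₐ[R] Module.End R (M →ₗ[R] N') :=
  Algebra.TensorProduct.lift (Lhom R S' M N') (Rhom R S M N') (fun b s => by
    change Lhom R S' M N' b * Rhom R S M N' s = Rhom R S M N' s * Lhom R S' M N' b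
    ext f m
    simp)

@[simp] theorem phi_tmul (b : S') (s : S) (f : M →ₗ[R] N') (m : M) :
    phi R S S' M N' (b ⊗ₜ[R] s) f m = b • f (s • m) := by
  simp [phi]

theorem phi_mul (t t' : S' ⊗[R] S) (f : M →ₗ[R] N') :
    phi R S S' M N' (t * t') f = phi R S S' M N' t (phi R S S' M N' t' f) := by
  rw [map_mul]
  rfl

/-- the generator `1 ⊗ s - s ⊗ 1` acts as the commutator with `s`. -/
theorem phi_gen (s : S) (f : M →ₗ[R] N') :
    phi R S S' M N' ((1 : S') ⊗ₜ[R] s - algebraMap S S' s ⊗ₜ[R] (1 : S)) f =
      commutator R S M N' f s := by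
  ext m
  rw [map_sub, LinearMap.sub_apply, LinearMap.sub_apply, phi_tmul, phi_tmul, commutator_apply,
    one_smul, one_smul, algebraMap_smul]

/-- the action preserves the order of operators over `S`. -/
theorem isDiffOpLE_phi (j : ℕ) (t : S' ⊗[R] S) (f : M →ₗ[R] N')
    (hf : IsDiffOpLE R S M N' j f) : IsDiffOpLE R S M N' j (phi R S S' M N' t f) := by
  induction t using TensorProduct.induction_on with
  | zero =>
    rw [map_zero]
    exact isDiffOpLE_zero_map R S M N' j
  | tmul b s =>
    have h1 : phi R S S' M N' (b ⊗ₜ[R] s) f =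
        ((LinearMap.lsmul S' N' b).restrictScalars S).restrictScalars R ∘ₗ
          (f ∘ₗ (LinearMap.lsmul S M s).restrictScalars R) := by
      ext m
      simp
    rw [h1]
    exact isDiffOpLE_postcomp R S M N' N' j _ _ (isDiffOpLE_precomp R S M M N' j f _ hf)
  | add x y hx hy =>
    rw [map_add]
    exact isDiffOpLE_add R S M N' j _ _ hx hy

end

end Groth.Agent.Helper19.DiffOp
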