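import Mathlib
import Groth.Prelude.Def_DiffOp
import Groth.Agent.Lib.Helper19.DiffOp.Action

/-!
# Existence of extensions of differential operators along formally smooth maps
-/

set_option autoImplicit false
universe u

namespace Groth.Agent.Helper19.DiffOp

open Diff16 TensorProduct

section

variable (R S S' : Type u) [CommRing R] [CommRing S] [CommRing S'] [Algebra R S] [Algebra R S']
  [Algebra S S'] [IsScalarTower R S S']
variable (M N' : Type u) [AddCommGroup M] [Module R M] [Module S M] [IsScalarTower R S M]
  [AddCommGroup N'] [Module R N'] [Module S N'] [Module S' N'] [IsScalarTower R S' N']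
  [IsScalarTower S S' N'] [IsScalarTower R S N']

/-- the generators of the diagonal ideal of `S' ⊗[R] S`. -/
noncomputable def gen (s : S) : S' ⊗[R] S :=
  (1 : S') ⊗ₜ[R] s - algebraMap S S' s ⊗ₜ[R] (1 : S)

/-- the diagonal ideal of `S' ⊗[R] S`. -/
noncomputable def diagIdeal : Ideal (S' ⊗[R] S) := Ideal.span (Set.range (gen R S S'))

/-- elements of the diagonal ideal lower the order. -/
theorem isDiffOpLE_phi_of_mem (j : ℕ) (y : S' ⊗[R] S) (hy : y ∈ diagIdeal R S S')
    (f : M →ₗ[R] N') (hf : IsDiffOpLE R S M N' (j + 1) f) :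
    IsDiffOpLE R S M N' j (phi R S S' M N' y f) := by
  unfold diagIdeal at hy
  induction hy using Submodule.span_induction with
  | mem x hx =>
    obtain ⟨s, rfl⟩ := hx
    unfold gen
    rw [phi_gen]
    exact hf s
  | zero =>
    rw [map_zero]
    exact isDiffOpLE_zero_map R S M N' j
  | add x y _ _ hx hy =>
    rw [map_add]
    exact isDiffOpLE_add R S M N' j _ _ hx hy
  | smul t x _ hx =>
    rw [smul_eq_mul, phi_mul]
    exact isDiffOpLE_phi R S S' M N' j t _ hx

/-- elements of the diagonal ideal kill operators of order `0`. -/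
theorem phi_eq_zero_of_mem (y : S' ⊗[R] S) (hy : y ∈ diagIdeal R S S')
    (f : M →ₗ[R] N') (hf : IsDiffOpLE R S M N' 0 f) : phi R S S' M N' y f = 0 := by
  unfold diagIdeal at hy
  induction hy using Submodule.span_induction with
  | mem x hx =>
    obtain ⟨s, rfl⟩ := hx
    unfold gen
    rw [phi_gen]
    exact (commutator_eq_zero_iff R S M N' f s).2 (hf s)
  | zero => rw [map_zero]; rfl
  | add x y _ _ hx hy => rw [map_add, LinearMap.add_apply, hx, hy, add_zero]
  | smul t x _ hx => rw [smul_eq_mul, phi_mul, hx, map_zero]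

/-- the `(j+1)`-st power of the diagonal ideal kills operators of order `≤ j`. -/
theorem phi_eq_zero_of_mem_pow (j : ℕ) (f : M →ₗ[R] N') (hf : IsDiffOpLE R S M N' j f)
    (t : S' ⊗[R] S) (ht : t ∈ diagIdeal R S S' ^ (j + 1)) : phi R S S' M N' t f = 0 := by
  induction j generalizing f t with
  | zero =>
    rw [zero_add, pow_one] at ht
    exact phi_eq_zero_of_mem R S S' M N' t ht f hf
  | succ j ih =>
    rw [pow_succ] at ht
    refine Submodule.mul_induction_on ht (fun x hx y hy => ?_) (fun x y hx hy => ?_)
    · rw [phi_mul]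
      exact ih _ (isDiffOpLE_phi_of_mem R S S' M N' j y hy f hf) x hx
    · rw [map_add, LinearMap.add_apply, hx, hy, add_zero]

end

end Groth.Agent.Helper19.DiffOp
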