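import Mathlib
import Groth.Prelude.Def_DiffOp
import Groth.Agent.Lib.Helper19.DiffOp.Exist

/-!
# Construction of the extension of a differential operator
-/

set_option autoImplicit false
universe u

namespace Groth.Agent.Helper19.DiffOp

open Diff16 TensorProduct

section

variable (R S S' : Type u) [CommRing R] [CommRing S] [CommRing S'] [Algebra R S] [Algebra R S']
  [Algebra S S'] [IsScalarTower R S S']
variable (M N' : Type u) [AddCommGroup M] [Module R M] [Module S M] [IsScalarTower R S M]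
  [AddCommGroup N'] [Module R N'] [Module S N'] [Module S' N'] [IsScalarTower R S' N']
  [IsScalarTower S S' N'] [IsScalarTower R S N']
variable (k : ℕ)

/-- the algebra of principal parts of order `k` (of `S'` relative to `S`, over `R`). -/
abbrev Cq : Type u := (S' ⊗[R] S) ⧸ (diagIdeal R S S' ^ (k + 1))

/-- the nilpotent ideal of `Cq`. -/
noncomputable def nbar : Ideal (Cq R S S' k) :=
  (diagIdeal R S S').map (Ideal.Quotient.mk (diagIdeal R S S' ^ (k + 1)))

theorem nbar_pow : nbar R S S' k ^ (k + 1) = ⊥ := by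
  unfold nbar
  rw [← Ideal.map_pow, Ideal.map_quotient_self]

/-- the `S`-algebra structure of `Cq` through the right factor. -/
@[reducible] noncomputable def algSC : Algebra S (Cq R S S' k) :=
  ((Ideal.Quotient.mk (diagIdeal R S S' ^ (k + 1))).comp
    (Algebra.TensorProduct.includeRight : S →ₐ[R] S' ⊗[R] S).toRingHom).toAlgebra

/-- existence of the lifted ring homomorphism `ρ : S' → Cq`. -/
theorem exists_rho [Algebra.FormallySmooth S S'] :
    ∃ ρ : S' →+* Cq R S S' k,
      (∀ s : S, ρ (algebraMap S S' s) =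
        Ideal.Quotient.mk _ ((1 : S') ⊗ₜ[R] s)) ∧
      (∀ c : S', ρ c - Ideal.Quotient.mk _ (c ⊗ₜ[R] (1 : S)) ∈ nbar R S S' k) := by
  letI := algSC R S S' k
  have halg : ∀ s : S, algebraMap S (Cq R S S' k) s =
      Ideal.Quotient.mk _ ((1 : S') ⊗ₜ[R] s) := fun s => rfl
  let g : S' →ₐ[S] Cq R S S' k ⧸ nbar R S S' k :=
    { toRingHom := (Ideal.Quotient.mk (nbar R S S' k)).comp
        ((Ideal.Quotient.mk (diagIdeal R S S' ^ (k + 1))).comp
          (Algebra.TensorProduct.includeLeft : S' →ₐ[R] S' ⊗[R] S).toRingHom)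
      commutes' := fun s => by
        change Ideal.Quotient.mk (nbar R S S' k) (Ideal.Quotient.mk _
          (algebraMap S S' s ⊗ₜ[R] (1 : S))) =
          Ideal.Quotient.mk (nbar R S S' k) (algebraMap S (Cq R S S' k) s)
        rw [halg, Ideal.Quotient.eq, ← map_sub, ← Ideal.neg_mem_iff, ← map_neg, neg_sub]
        exact Ideal.mem_map_of_mem _ (Ideal.subset_span ⟨s, rfl⟩) }
  have hnil : IsNilpotent (nbar R S S' k) := ⟨k + 1, nbar_pow R S S' k⟩
  let ρ : S' →ₐ[S] Cq R S S' k := Algebra.FormallySmooth.lift (nbar R S S' k) hnil g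
  refine ⟨ρ.toRingHom, fun s => ?_, fun c => ?_⟩
  · change ρ (algebraMap S S' s) = _
    rw [ρ.commutes, halg]
  · change ρ c - _ ∈ _
    rw [← Ideal.Quotient.eq]
    exact Algebra.FormallySmooth.mk_lift (nbar R S S' k) hnil g c

variable {R S S' M N' k}
variable (D₁ : M →ₗ[R] N') (hD₁ : IsDiffOpLE R S M N' k D₁)

/-- the action of `Cq` on the cyclic module generated by `D₁`. -/
noncomputable def act : Cq R S S' k →+ (M →ₗ[R] N') :=
  letI : Module (S' ⊗[R] S) (M →ₗ[R] N') := Module.compHom _ (phi R S S' M N').toRingHom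
  (Submodule.liftQ (diagIdeal R S S' ^ (k + 1))
    (LinearMap.toSpanSingleton (S' ⊗[R] S) (M →ₗ[R] N') D₁)
    (fun t ht => by
      rw [LinearMap.mem_ker]
      exact phi_eq_zero_of_mem_pow R S S' M N' k D₁ hD₁ t ht)).toAddMonoidHom

theorem act_mk (t : S' ⊗[R] S) :
    act D₁ hD₁ (Ideal.Quotient.mk _ t) = phi R S S' M N' t D₁ := rfl

theorem act_mk_mul (t : S' ⊗[R] S) (c : Cq R S S' k) :
    act D₁ hD₁ (Ideal.Quotient.mk _ t * c) = phi R S S' M N' t (act D₁ hD₁ c) := by
  obtain ⟨t', rfl⟩ := Ideal.Quotient.mk_surjective c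
  rw [← map_mul, act_mk, act_mk, phi_mul]

variable (ρ : S' →+* Cq R S S' k)
  (hρS : ∀ s : S, ρ (algebraMap S S' s) = Ideal.Quotient.mk _ ((1 : S') ⊗ₜ[R] s))

/-- the additive map underlying the operator attached to `γ`. -/
noncomputable def DgAdd (γ : Cq R S S' k) : S' ⊗[S] M →+ N' :=
  TensorProduct.liftAddHom
    ({ toFun := fun b =>
        { toFun := fun m => act D₁ hD₁ (γ * ρ b) m
          map_zero' := by simp
          map_add' := fun m m' => by simp }
       map_zero' := by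
        ext m
        simp
       map_add' := fun b b' => by
        ext m
        simp [mul_add] } : S' →+ M →+ N')
    (fun s b m => by
      change act D₁ hD₁ (γ * ρ (s • b)) m = act D₁ hD₁ (γ * ρ b) (s • m)
      rw [Algebra.smul_def, ρ.map_mul, hρS, ← mul_assoc, mul_comm γ, mul_assoc, act_mk_mul,
        phi_tmul, one_smul])

theorem DgAdd_tmul (γ : Cq R S S' k) (b : S') (m : M) :
    DgAdd D₁ hD₁ ρ hρS γ (b ⊗ₜ[S] m) = act D₁ hD₁ (γ * ρ b) m := rfl

/-- the operator attached to `γ`. -/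
noncomputable def Dg (γ : Cq R S S' k) : S' ⊗[S] M →ₗ[R] N' where
  toFun := DgAdd D₁ hD₁ ρ hρS γ
  map_add' := map_add _
  map_smul' := fun r x => by
    induction x using TensorProduct.induction_on with
    | zero => simp
    | tmul b m =>
      have h1 : r • (b ⊗ₜ[S] m) = b ⊗ₜ[S] (r • m) := by
        rw [TensorProduct.smul_tmul', ← algebraMap_smul S r b, TensorProduct.smul_tmul,
          algebraMap_smul]
      rw [h1, DgAdd_tmul, DgAdd_tmul, map_smul]
      rfl
    | add x y hx hy =>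
      rw [smul_add, map_add, map_add, hx, hy, smul_add]

theorem Dg_tmul (γ : Cq R S S' k) (b : S') (m : M) :
    Dg D₁ hD₁ ρ hρS γ (b ⊗ₜ[S] m) = act D₁ hD₁ (γ * ρ b) m := rfl

theorem Dg_zero : Dg D₁ hD₁ ρ hρS 0 = 0 := by
  refine LinearMap.ext fun x => ?_
  induction x using TensorProduct.induction_on with
  | zero => simp
  | tmul b m => rw [Dg_tmul, zero_mul, map_zero]; rfl
  | add x y hx hy => rw [map_add, hx, hy, map_add]

/-- the commutator formula. -/
theorem commutator_Dg (γ : Cq R S S' k) (c : S') :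
    commutator R S' (S' ⊗[S] M) N' (Dg D₁ hD₁ ρ hρS γ) c =
      Dg D₁ hD₁ ρ hρS (γ * (ρ c - Ideal.Quotient.mk _ (c ⊗ₜ[R] (1 : S)))) := by
  refine LinearMap.ext fun x => ?_
  induction x using TensorProduct.induction_on with
  | zero => simp
  | tmul b m =>
    rw [commutator_apply, TensorProduct.smul_tmul', smul_eq_mul, Dg_tmul, Dg_tmul, Dg_tmul,
      ρ.map_mul]
    have h1 : γ * (ρ c - Ideal.Quotient.mk _ (c ⊗ₜ[R] (1 : S))) * ρ b =
        γ * (ρ c * ρ b) - Ideal.Quotient.mk _ (c ⊗ₜ[R] (1 : S)) * (γ * ρ b) := by ring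
    rw [h1, map_sub, LinearMap.sub_apply, act_mk_mul, phi_tmul, one_smul]
  | add x y hx hy => rw [map_add, map_add, hx, hy]

/-- the order of the operators `Dg γ`. -/
theorem isDiffOpLE_Dg
    (hρn : ∀ c : S', ρ c - Ideal.Quotient.mk _ (c ⊗ₜ[R] (1 : S)) ∈ nbar R S S' k)
    (j i : ℕ) (hij : i + j = k) (γ : Cq R S S' k) (hγ : γ ∈ nbar R S S' k ^ i) :
    IsDiffOpLE R S' (S' ⊗[S] M) N' j (Dg D₁ hD₁ ρ hρS γ) := by
  induction j generalizing i γ with
  | zero =>
    intro c x
    have h1 := commutator_Dg D₁ hD₁ ρ hρS γ c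
    have h2 : γ * (ρ c - Ideal.Quotient.mk _ (c ⊗ₜ[R] (1 : S))) = 0 := by
      have : γ * (ρ c - Ideal.Quotient.mk _ (c ⊗ₜ[R] (1 : S))) ∈ nbar R S S' k ^ (k + 1) := by
        rw [pow_succ (nbar R S S' k) k]
        rw [add_zero] at hij
        rw [hij] at hγ
        exact Ideal.mul_mem_mul hγ (hρn c)
      rw [nbar_pow] at this
      exact this
    rw [h2, Dg_zero] at h1
    exact (commutator_eq_zero_iff R S' _ N' _ c).1 h1 x
  | succ j ih =>
    intro c
    rw [commutator_Dg]
    refine ih (i + 1) (by omega) _ ?_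
    rw [pow_succ (nbar R S S' k) i]
    exact Ideal.mul_mem_mul hγ (hρn c)

end

section Main

variable (R S S' : Type u) [CommRing R] [CommRing S] [CommRing S'] [Algebra R S] [Algebra R S']
  [Algebra S S'] [IsScalarTower R S S'] [Algebra.FormallySmooth S S']
variable (M N' : Type u) [AddCommGroup M] [Module R M] [Module S M] [IsScalarTower R S M]
  [AddCommGroup N'] [Module R N'] [Module S N'] [Module S' N'] [IsScalarTower R S' N']
  [IsScalarTower S S' N'] [IsScalarTower R S N']

/-- **Existence** of the extension of an `S`-operator `M → N'` to an `S'`-operator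
`S' ⊗[S] M → N'` of the same order. -/
theorem exists_extension (k : ℕ) (D₁ : M →ₗ[R] N') (hD₁ : IsDiffOpLE R S M N' k D₁) :
    ∃ D' : S' ⊗[S] M →ₗ[R] N', IsDiffOpLE R S' (S' ⊗[S] M) N' k D' ∧
      ∀ m : M, D' ((1 : S') ⊗ₜ[S] m) = D₁ m := by
  obtain ⟨ρ, hρS, hρn⟩ := exists_rho R S S' k
  refine ⟨Dg D₁ hD₁ ρ hρS 1, ?_, fun m => ?_⟩
  · exact isDiffOpLE_Dg D₁ hD₁ ρ hρS hρn k 0 (zero_add k) 1
      (by rw [pow_zero (nbar R S S' k), Ideal.one_eq_top]; trivial)
  · rw [Dg_tmul, ρ.map_one, mul_one]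
    have h1 : act D₁ hD₁ (1 : Cq R S S' k) = D₁ := by
      have := act_mk D₁ hD₁ (1 : S' ⊗[R] S)
      rw [(Ideal.Quotient.mk (diagIdeal R S S' ^ (k + 1))).map_one] at this
      rw [this, _root_.map_one (phi R S S' M N')]
      rfl
    rw [h1]

end Main

end Groth.Agent.Helper19.DiffOp
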