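import Mathlib
import Groth.Prelude.Def_DiffOp
import Groth.Agent.Lib.Helper19.DiffOp.Basic

/-!
# Uniqueness of extensions of differential operators along formally unramified maps
-/

set_option autoImplicit false
universe u v

namespace Groth.Agent.Helper19.DiffOp

open Diff16

section Restrict

variable (R S S' : Type u) [CommRing R] [CommRing S] [CommRing S'] [Algebra R S] [Algebra R S']
  [Algebra S S'] [IsScalarTower R S S']
variable (M M' N' : Type v) [AddCommGroup M] [Module R M] [Module S M] [IsScalarTower R S M]
  [AddCommGroup M'] [Module R M'] [Module S M'] [Module S' M'] [IsScalarTower R S' M']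
  [IsScalarTower S S' M'] [IsScalarTower R S M']
  [AddCommGroup N'] [Module R N'] [Module S N'] [Module S' N'] [IsScalarTower R S' N']
  [IsScalarTower S S' N'] [IsScalarTower R S N']

/-- restriction of an operator over `S'` along an `S`-linear map from an `S`-module. -/
theorem isDiffOpLE_restrict (k : ℕ) (D' : M' →ₗ[R] N') (ι : M →ₗ[S] M')
    (h : IsDiffOpLE R S' M' N' k D') :
    IsDiffOpLE R S M N' k (D' ∘ₗ ι.restrictScalars R) := by
  induction k generalizing D' with
  | zero =>
    intro s m
    change D' (ι (s • m)) = s • D' (ι m)
    rw [ι.map_smul, ← algebraMap_smul S' s (ι m), h (algebraMap S S' s) (ι m), algebraMap_smul]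
  | succ k ih =>
    intro s
    have : Diff16.commutator R S M N' (D' ∘ₗ ι.restrictScalars R) s =
        Diff16.commutator R S' M' N' D' (algebraMap S S' s) ∘ₗ ι.restrictScalars R := by
      ext m
      change D' (ι (s • m)) - s • D' (ι m) =
        D' (algebraMap S S' s • ι m) - algebraMap S S' s • D' (ι m)
      rw [ι.map_smul, algebraMap_smul, algebraMap_smul]
    rw [this]
    exact ih _ (h _)

end Restrict

section Unramified

variable (R S S' : Type u) [CommRing R] [CommRing S] [CommRing S'] [Algebra R S] [Algebra R S']
  [Algebra S S'] [IsScalarTower R S S'] [Algebra.FormallyUnramified S S']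
variable (M' N' : Type v)
  [AddCommGroup M'] [Module R M'] [Module S' M'] [IsScalarTower R S' M']
  [AddCommGroup N'] [Module R N'] [Module S N'] [Module S' N'] [IsScalarTower R S' N']
  [IsScalarTower S S' N']

/-- every `S`-derivation of `S'` vanishes. -/
theorem derivation_eq_zero (d : Derivation S S' N') : d = 0 := by
  haveI : Subsingleton (Ω[S'⁄S]) :=
    Algebra.FormallyUnramified.subsingleton_kaehlerDifferential
  have h := d.liftKaehlerDifferential_comp
  rw [← h]
  have h0 : d.liftKaehlerDifferential = 0 := by
    refine LinearMap.ext fun x => ?_
    rw [Subsingleton.elim x 0]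
    simp
  rw [h0]
  ext b
  simp

/-- an operator over `S'` commuting with `S` is `S'`-linear. -/
theorem isDiffOpLE_zero_of_commute (n : ℕ) (E : M' →ₗ[R] N')
    (hS : ∀ s : S, Diff16.commutator R S' M' N' E (algebraMap S S' s) = 0)
    (hE : IsDiffOpLE R S' M' N' n E) : IsDiffOpLE R S' M' N' 0 E := by
  induction n generalizing E with
  | zero => exact hE
  | succ n ih =>
    -- the commutators are S'-linear
    have hF : ∀ b : S', IsDiffOpLE R S' M' N' 0 (Diff16.commutator R S' M' N' E b) := by
      intro b
      refine ih _ (fun s => ?_) (hE b)
      rw [commutator_comm, hS s, commutator_zero]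
    intro b x
    -- the derivation `b ↦ E (b x) - b E x`
    let d : Derivation S S' N' :=
      { toFun := fun c => Diff16.commutator R S' M' N' E c x
        map_add' := fun c c' => by
          simp only [commutator_apply, add_smul, map_add]
          abel
        map_smul' := fun s c => by
          simp only [commutator_apply, RingHom.id_apply]
          have h1 : (s • c) • x = algebraMap S S' s • (c • x) := by
            rw [Algebra.smul_def, mul_smul]
          have h2 : E (algebraMap S S' s • (c • x)) = algebraMap S S' s • E (c • x) :=
            (commutator_eq_zero_iff R S' M' N' E _).1 (hS s) (c • x)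
          rw [h1, h2, algebraMap_smul, Algebra.smul_def, mul_smul, algebraMap_smul, smul_sub]
        map_one_eq_zero' := by
          change Diff16.commutator R S' M' N' E 1 x = 0
          simp [commutator_apply]
        leibniz' := fun c c' => by
          change Diff16.commutator R S' M' N' E (c * c') x =
            c • Diff16.commutator R S' M' N' E c' x + c' • Diff16.commutator R S' M' N' E c x
          have h1' : E (c • c' • x) - c • E (c' • x) = c' • E (c • x) - c' • c • E x := by
            have := hF c c' x
            simpa only [commutator_apply, smul_sub] using this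
          have h6 : E (c • c' • x) = c • E (c' • x) + (c' • E (c • x) - c' • c • E x) := by
            rw [← h1']
            abel
          simp only [commutator_apply]
          rw [mul_smul, mul_smul, h6, smul_sub, smul_sub, smul_comm c' c (E x)]
          abel }
    have hd : d = 0 := derivation_eq_zero S S' N' d
    have := congrArg (fun e : Derivation S S' N' => e b) hd
    change Diff16.commutator R S' M' N' E b x = 0 at this
    rw [commutator_apply, sub_eq_zero] at this
    exact this

end Unramified

section Uniqueness

variable (R S S' : Type u) [CommRing R] [CommRing S] [CommRing S'] [Algebra R S] [Algebra R S']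
  [Algebra S S'] [IsScalarTower R S S'] [Algebra.FormallyUnramified S S']
variable (M M' N' : Type v) [AddCommGroup M] [Module S M]
  [AddCommGroup M'] [Module R M'] [Module S M'] [Module S' M'] [IsScalarTower R S' M']
  [IsScalarTower S S' M']
  [AddCommGroup N'] [Module R N'] [Module S N'] [Module S' N'] [IsScalarTower R S' N']
  [IsScalarTower S S' N']

/-- an `S'`-linear (order zero) operator vanishing on a generating set vanishes. -/
theorem eq_zero_of_order_zero (E : M' →ₗ[R] N') (ι : M →ₗ[S] M')
    (hspan : Submodule.span S' (Set.range ι) = ⊤)
    (hE : IsDiffOpLE R S' M' N' 0 E) (h0 : ∀ m, E (ι m) = 0) : E = 0 := by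
  refine LinearMap.ext fun x => ?_
  have hx : x ∈ Submodule.span S' (Set.range ι) := by rw [hspan]; trivial
  induction hx using Submodule.span_induction with
  | mem y hy =>
    obtain ⟨m, rfl⟩ := hy
    simpa using h0 m
  | zero => simp
  | add y z _ _ hy hz => simp [hy, hz]
  | smul b y _ hy =>
    rw [hE b y, hy]
    simp

/-- **Uniqueness**: an operator of order `≤ k` over `S'` (formally unramified over `S`) which
vanishes on the image of a generating `S`-module vanishes. -/
theorem eq_zero_of_vanish (k : ℕ) (E : M' →ₗ[R] N') (ι : M →ₗ[S] M')
    (hspan : Submodule.span S' (Set.range ι) = ⊤)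
    (hE : IsDiffOpLE R S' M' N' k E) (h0 : ∀ m, E (ι m) = 0) : E = 0 := by
  induction k generalizing E with
  | zero => exact eq_zero_of_order_zero R S S' M M' N' E ι hspan hE h0
  | succ k ih =>
    have hS : ∀ s : S, Diff16.commutator R S' M' N' E (algebraMap S S' s) = 0 := by
      intro s
      refine ih _ (hE _) (fun m => ?_)
      rw [commutator_apply, algebraMap_smul, ← ι.map_smul, h0, h0, smul_zero, sub_zero]
    exact eq_zero_of_order_zero R S S' M M' N' E ι hspan
      (isDiffOpLE_zero_of_commute R S S' M' N' (k + 1) E hS hE) h0

end Uniqueness

end Groth.Agent.Helper19.DiffOp
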