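import Mathlib
import Groth.Prelude.Def_DiffOp
import Groth.Agent.Lib.Helper19.DiffOp.Unique

/-!
# Principal parts base change along formally étale maps (universal property form)
-/

set_option autoImplicit false
universe u

namespace Groth.Agent.Helper19.DiffOp

open Diff16 TensorProduct

section

variable (R S S' : Type u) [CommRing R] [CommRing S] [CommRing S'] [Algebra R S] [Algebra R S']
  [Algebra S S'] [IsScalarTower R S S']

theorem span_range_mk_one (M : Type u) [AddCommGroup M] [Module S M] :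
    Submodule.span S' (Set.range (TensorProduct.mk S S' M 1)) = ⊤ := by
  rw [eq_top_iff]
  rintro x -
  induction x using TensorProduct.induction_on with
  | zero => exact Submodule.zero_mem _
  | tmul b m =>
    have : b ⊗ₜ[S] m = b • (TensorProduct.mk S S' M 1 m) := by
      simp [TensorProduct.smul_tmul']
    rw [this]
    exact Submodule.smul_mem _ _ (Submodule.subset_span ⟨m, rfl⟩)
  | add x y hx hy => exact Submodule.add_mem _ hx hy

end

theorem universal_baseChange (R S S' : Type u) [CommRing R]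
    [CommRing S] [CommRing S'] [Algebra R S] [Algebra R S'] [Algebra S S'] [IsScalarTower R S S']
    [Algebra.FormallyEtale S S'] (M : Type u) [AddCommGroup M] [Module S M] [Module R M]
    [IsScalarTower R S M] (k : ℕ) (P : Type u) [AddCommGroup P] [Module S P] [Module R P]
    [IsScalarTower R S P] (Du : M →ₗ[R] P)
    (huniv : ∀ (N : Type u) [AddCommGroup N] [Module S N] [Module R N] [IsScalarTower R S N]
      (D : M →ₗ[R] N), Diff16.IsDiffOpLE R S M N k D → ∃! α : P →ₗ[S] N, α.restrictScalars R ∘ₗ Du = D)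
    (Du' : S' ⊗[S] M →ₗ[R] S' ⊗[S] P) (hDu' : Diff16.IsDiffOpLE R S' (S' ⊗[S] M) (S' ⊗[S] P) k Du')
    (hext : Du' ∘ₗ (TensorProduct.mk S S' M 1).restrictScalars R =
      (TensorProduct.mk S S' P 1).restrictScalars R ∘ₗ Du) :
    ∀ (N' : Type u) [AddCommGroup N'] [Module S' N'] [Module R N'] [IsScalarTower R S' N']
      (D' : S' ⊗[S] M →ₗ[R] N'), Diff16.IsDiffOpLE R S' (S' ⊗[S] M) N' k D' →
        ∃! α : S' ⊗[S] P →ₗ[S'] N', α.restrictScalars R ∘ₗ Du' = D' := by
  intro N' _ _ _ _ D' hD'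
  letI : Module S N' := Module.compHom N' (algebraMap S S')
  haveI : IsScalarTower S S' N' := ⟨fun s b n => by
    change (s • b) • n = algebraMap S S' s • (b • n)
    rw [Algebra.smul_def, mul_smul]⟩
  haveI : IsScalarTower R S N' := ⟨fun r s n => by
    change algebraMap S S' (r • s) • n = r • (algebraMap S S' s • n)
    rw [Algebra.smul_def, map_mul, ← IsScalarTower.algebraMap_apply, mul_smul, algebraMap_smul]⟩
  haveI : Algebra.FormallyUnramified S S' := inferInstance
  let ιM : M →ₗ[S] S' ⊗[S] M := TensorProduct.mk S S' M 1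
  let ιP : P →ₗ[S] S' ⊗[S] P := TensorProduct.mk S S' P 1
  have hD₀ : IsDiffOpLE R S M N' k (D' ∘ₗ ιM.restrictScalars R) :=
    isDiffOpLE_restrict R S S' M (S' ⊗[S] M) N' k D' ιM hD'
  obtain ⟨α₀, hα₀, hα₀u⟩ := huniv N' _ hD₀
  have hα₀' : ∀ m, α₀ (Du m) = D' ((1 : S') ⊗ₜ[S] m) := fun m =>
    congrArg (fun f : M →ₗ[R] N' => f m) hα₀
  have hext' : ∀ m, Du' ((1 : S') ⊗ₜ[S] m) = (1 : S') ⊗ₜ[S] Du m := fun m =>
    congrArg (fun f : M →ₗ[R] S' ⊗[S] P => f m) hext
  let α : S' ⊗[S] P →ₗ[S'] N' := α₀.liftBaseChange S'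
  refine ⟨α, ?_, ?_⟩
  · -- α ∘ Du' = D'
    have hE : IsDiffOpLE R S' (S' ⊗[S] M) N' k (α.restrictScalars R ∘ₗ Du' - D') :=
      isDiffOpLE_sub R S' _ _ k _ _ (isDiffOpLE_postcomp R S' _ _ _ k Du' α hDu') hD'
    have h0 : ∀ m, (α.restrictScalars R ∘ₗ Du' - D') (ιM m) = 0 := by
      intro m
      change α (Du' ((1 : S') ⊗ₜ[S] m)) - D' ((1 : S') ⊗ₜ[S] m) = 0
      rw [hext', LinearMap.liftBaseChange_tmul, one_smul, hα₀', sub_self]
    have := eq_zero_of_vanish R S S' M (S' ⊗[S] M) N' k _ ιM (span_range_mk_one S S' M) hE h0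
    exact sub_eq_zero.mp this
  · intro α' hα'
    have hα'' : ∀ x, α' (Du' x) = D' x := fun x =>
      congrArg (fun f : S' ⊗[S] M →ₗ[R] N' => f x) hα'
    have h1 : (α'.restrictScalars S ∘ₗ ιP) = α₀ := by
      apply hα₀u
      ext m
      change α' ((1 : S') ⊗ₜ[S] Du m) = D' ((1 : S') ⊗ₜ[S] m)
      rw [← hext', hα'']
    apply TensorProduct.AlgebraTensorModule.ext
    intro b p
    change α' (b ⊗ₜ[S] p) = α (b ⊗ₜ[S] p)
    have hb : b ⊗ₜ[S] p = b • ((1 : S') ⊗ₜ[S] p) := by
      simp [TensorProduct.smul_tmul']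
    rw [LinearMap.liftBaseChange_tmul, hb, α'.map_smul, ← h1]
    rfl

end Groth.Agent.Helper19.DiffOp
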