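import Mathlib
import Groth.Prelude.Def_DiffOp
import Groth.Agent.Lib.Helper19.DiffOp.Construct
import Groth.Agent.Lib.Helper19.DiffOp.Univ

/-!
# Differential operators extend uniquely along formally étale maps
-/

set_option autoImplicit false
universe u

namespace Groth.Agent.Helper19.DiffOp

open Diff16 TensorProduct

theorem existsUnique_baseChange (R S S' : Type u) [CommRing R]
    [CommRing S] [CommRing S'] [Algebra R S] [Algebra R S'] [Algebra S S'] [IsScalarTower R S S']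
    [Algebra.FormallyEtale S S'] (M N : Type u) [AddCommGroup M] [Module S M] [Module R M]
    [IsScalarTower R S M] [AddCommGroup N] [Module S N] [Module R N] [IsScalarTower R S N]
    (k : ℕ) (D : M →ₗ[R] N) (hD : Diff16.IsDiffOpLE R S M N k D) :
    ∃! D' : S' ⊗[S] M →ₗ[R] S' ⊗[S] N,
      Diff16.IsDiffOpLE R S' (S' ⊗[S] M) (S' ⊗[S] N) k D' ∧
        D' ∘ₗ (TensorProduct.mk S S' M 1).restrictScalars R =
          (TensorProduct.mk S S' N 1).restrictScalars R ∘ₗ D := by
  haveI : Algebra.FormallySmooth S S' := inferInstance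
  haveI : Algebra.FormallyUnramified S S' := inferInstance
  let D₁ : M →ₗ[R] S' ⊗[S] N := (TensorProduct.mk S S' N 1).restrictScalars R ∘ₗ D
  have hD₁ : IsDiffOpLE R S M (S' ⊗[S] N) k D₁ :=
    isDiffOpLE_postcomp R S M N (S' ⊗[S] N) k D (TensorProduct.mk S S' N 1) hD
  obtain ⟨D', h1, h2⟩ := exists_extension R S S' M (S' ⊗[S] N) k D₁ hD₁
  refine ⟨D', ⟨h1, LinearMap.ext fun m => h2 m⟩, ?_⟩
  rintro E ⟨hE1, hE2⟩
  have hE2' : ∀ m, E ((1 : S') ⊗ₜ[S] m) = D₁ m := fun m =>
    congrArg (fun f : M →ₗ[R] S' ⊗[S] N => f m) hE2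
  have := eq_zero_of_vanish R S S' M (S' ⊗[S] M) (S' ⊗[S] N) k (E - D')
    (TensorProduct.mk S S' M 1) (span_range_mk_one S S' M)
    (isDiffOpLE_sub R S' _ _ k _ _ hE1 h1) (fun m => by
      change E ((1 : S') ⊗ₜ[S] m) - D' ((1 : S') ⊗ₜ[S] m) = 0
      rw [hE2', h2, sub_self])
  exact sub_eq_zero.mp this

end Groth.Agent.Helper19.DiffOp
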